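import Cfsg.Agent.BX.P17b.Cov9D
set_option linter.all false
set_option Elab.async false

/-!
# The cover for the test at 9 of `PGL₂(17)` (helper18): the targets and the translations
-/

set_option autoImplicit false
set_option maxRecDepth 100000

namespace Cfsg.Agent.BX.P17b.Cov9

open Cfsg.Agent.BX.Cov Cfsg.Agent.BX.Frame.Fr3 Cfsg.Agent.Lib.PackMat Cfsg.Agent.Lib.PackMatMul
open Cfsg.Agent.Lib.PackMatOrbit (getO)

theorem tg_0 : tgtC C3 dat ((qs.drop 0).take 1) = true := by decide +kernel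

theorem tg_1 : tgtC C3 dat ((qs.drop 1).take 1) = true := by decide +kernel

theorem tg_2 : tgtC C3 dat ((qs.drop 2).take 1) = true := by decide +kernel

theorem tg_3 : tgtC C3 dat ((qs.drop 3).take 1) = true := by decide +kernel

theorem tg_4 : tgtC C3 dat ((qs.drop 4).take 1) = true := by decide +kernel

theorem tg_5 : tgtC C3 dat ((qs.drop 5).take 1) = true := by decide +kernel

theorem tg_6 : tgtC C3 dat ((qs.drop 6).take 1) = true := by decide +kernel

theorem tgs : ∀ q ∈ qs.drop 0, tgtB (mulM C3) (oneM C3) (C3.p - 1) dat q = true :=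
  chunk 0 1 (tgtC_sound tg_0) (chunk 1 1 (tgtC_sound tg_1) (chunk 2 1 (tgtC_sound tg_2) (chunk 3 1 (tgtC_sound tg_3) (chunk 4 1 (tgtC_sound tg_4) (chunk 5 1 (tgtC_sound tg_5) (chunk 6 1 (tgtC_sound tg_6) (fun q hq => absurd hq List.not_mem_nil)))))))

theorem vec : vecC C3 dat 2 [[0, 0], [0], [0, 2, 0, 0, 2], [0, 2, 0, 2], [0, 0, 2, 0, 2], [0, 0, 2, 1, 0, 2], [0, 2, 1, 0, 0, 2]] = true := by decide +kernel

end Cfsg.Agent.BX.P17b.Cov9
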