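import Cfsg.Agent.BX.P17b.Cov9L
import Cfsg.Agent.BX.P17b.Cov9T
import Cfsg.Agent.BX.P17b.Cov9Q
set_option linter.all false
set_option Elab.async false

/-!
# The cover for the test at 9 of `PGL₂(17)` (helper18)
-/

set_option autoImplicit false
set_option maxRecDepth 100000

namespace Cfsg.Agent.BX.P17b.Cov9

open Cfsg.Agent.BX.Cov Cfsg.Agent.BX.Frame.Fr3 Cfsg.Agent.Lib.PackMat Cfsg.Agent.Lib.PackMatMul
open Cfsg.Agent.Lib.PackMatOrbit (getO)

/-- **The cover.** -/
theorem cover : Cover M3 dw aw tw :=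
  cover_of good3 (by decide) base (tstC_sound tsts) LL_ok TT_ok root tgs rfl rfl vec gens

end Cfsg.Agent.BX.P17b.Cov9
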