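import Cfsg.Agent.BX.P17b.Cov9D
set_option linter.all false
set_option Elab.async false

/-!
# The cover for the test at 9 of `PGL₂(17)` (helper18): the check of the diagonal parts
-/

set_option autoImplicit false
set_option maxRecDepth 100000

namespace Cfsg.Agent.BX.P17b.Cov9

open Cfsg.Agent.BX.Cov Cfsg.Agent.BX.Frame.Fr3 Cfsg.Agent.Lib.PackMat Cfsg.Agent.Lib.PackMatMul
open Cfsg.Agent.Lib.PackMatOrbit (getO)

theorem L_llll_ok : L_llll.All (lstP C3 dat LL) := lstC_sound (by decide +kernel)

theorem L_lllr_ok : L_lllr.All (lstP C3 dat LL) := lstC_sound (by decide +kernel)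

theorem L_llrl_ok : L_llrl.All (lstP C3 dat LL) := lstC_sound (by decide +kernel)

theorem L_llrr_ok : L_llrr.All (lstP C3 dat LL) := lstC_sound (by decide +kernel)

theorem L_lrll_ok : L_lrll.All (lstP C3 dat LL) := lstC_sound (by decide +kernel)

theorem L_lrlr_ok : L_lrlr.All (lstP C3 dat LL) := lstC_sound (by decide +kernel)

theorem L_lrrl_ok : L_lrrl.All (lstP C3 dat LL) := lstC_sound (by decide +kernel)

theorem L_lrrr_ok : L_lrrr.All (lstP C3 dat LL) := lstC_sound (by decide +kernel)

theorem L_rlll_ok : L_rlll.All (lstP C3 dat LL) := lstC_sound (by decide +kernel)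

theorem L_rllr_ok : L_rllr.All (lstP C3 dat LL) := lstC_sound (by decide +kernel)

theorem L_rlrl_ok : L_rlrl.All (lstP C3 dat LL) := lstC_sound (by decide +kernel)

theorem L_rlrr_ok : L_rlrr.All (lstP C3 dat LL) := lstC_sound (by decide +kernel)

theorem L_rrll_ok : L_rrll.All (lstP C3 dat LL) := lstC_sound (by decide +kernel)

theorem L_rrlr_ok : L_rrlr.All (lstP C3 dat LL) := lstC_sound (by decide +kernel)

theorem L_rrrl_ok : L_rrrl.All (lstP C3 dat LL) := lstC_sound (by decide +kernel)

theorem L_rrrr_ok : L_rrrr.All (lstP C3 dat LL) := lstC_sound (by decide +kernel)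

theorem LL_ok : LL.All (lstP C3 dat LL) :=
  (Tr.All.node (Tr.All.node (Tr.All.node (Tr.All.node (L_llll_ok) (lstC_sound (by decide +kernel)) (L_lllr_ok)) (lstC_sound (by decide +kernel)) (Tr.All.node (L_llrl_ok) (lstC_sound (by decide +kernel)) (L_llrr_ok))) (lstC_sound (by decide +kernel)) (Tr.All.node (Tr.All.node (L_lrll_ok) (lstC_sound (by decide +kernel)) (L_lrlr_ok)) (lstC_sound (by decide +kernel)) (Tr.All.node (L_lrrl_ok) (lstC_sound (by decide +kernel)) (L_lrrr_ok)))) (lstC_sound (by decide +kernel)) (Tr.All.node (Tr.All.node (Tr.All.node (L_rlll_ok) (lstC_sound (by decide +kernel)) (L_rllr_ok)) (lstC_sound (by decide +kernel)) (Tr.All.node (L_rlrl_ok) (lstC_sound (by decide +kernel)) (L_rlrr_ok))) (lstC_sound (by decide +kernel)) (Tr.All.node (Tr.All.node (L_rrll_ok) (lstC_sound (by decide +kernel)) (L_rrlr_ok)) (lstC_sound (by decide +kernel)) (Tr.All.node (L_rrrl_ok) (lstC_sound (by decide +kernel)) (L_rrrr_ok)))))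

end Cfsg.Agent.BX.P17b.Cov9
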