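import Cfsg.Agent.BX.Five.T47
import Cfsg.Agent.BX.Max.Prim
set_option linter.all false

/-!
# `PGL₂(17)` in the Baby Monster: words, relations, the test at 17 (helper5; words of helper18)
-/

set_option autoImplicit false
set_option maxRecDepth 100000
set_option Elab.async false

namespace Cfsg.Agent.BX.P17b

open Cfsg.Agent.BabyM.Conc Cfsg.Agent.H819.U33 Cfsg.Agent.BMx.Fast Cfsg.Agent.BX.Max Subgroup

/-- `u`, of order 17 -/
def wu : List Ltr :=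
  [.Z9, .Z8, .Z7, .Z5, .Z4, .Z3, .Z0, .X9, .X6, .X5, .X4, .X2, .y10, .y8, .y4, .y3, .y2, .hi, .p7, .hi, .p3, .hi, .p7,
   .hi, .p7, .hi, .p10, .hi, .p10, .xii, .y2, .p3, .hi, .xii, .p10, .y1, .tau, .y1, .xii, .y1, .hi, .xii, .p10, .xii,
   .y9, .taui, .y1, .xii, .y1, .hi, .xii, .p10, .xii, .y3, .y5, .tau, .X0, .p6, .xii, .p2, .xii, .y2, .y10, .taui,
   .xii, .p6, .xii, .y6, .p, .xii, .y6, .taui, .xii, .p2, .hi]

/-- `h`, of order 16 -/
def wh : List Ltr :=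
  [.z, .Z8, .Z6, .Z4, .Z2, .Z1, .X10, .X9, .X8, .X6, .y10, .y5, .y4, .y3, .y2, .y1, .hi, .p, .hi, .p10, .hi, .p8, .hi,
   .p7, .hi, .p7, .hi, .p4, .xii, .p, .xii, .p4, .xii, .y2, .y9, .taui, .xii, .y1, .p, .xii, .p, .xii, .y6, .y10,
   .tau, .xii, .y1, .p, .xii, .y4, .p, .xii, .y3, .taui, .p9, .xii, .p3, .y6, .xii, .tau, .xii, .p4, .xii, .y1, .p8,
   .xii, .y1, .taui, .xii, .p9, .xii, .y8]

/-- `w`, of order 2 -/
def ww : List Ltr :=
  [.Z7, .Z6, .Z5, .X10, .X9, .X3, .X2, .X1, .y10, .y6, .y5, .y4, .y3, .y1, .hi, .p10, .hi, .p2, .hi, .p7, .hi, .p9,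
   .hi, .p8, .hi, .p5, .xii, .hi, .xii, .p8, .tau, .y1, .xii, .p10, .xii, .y8, .p10, .xii, .y2, .y8, .tau, .p10, .xii,
   .y4, .p5, .xii, .y9, .p3, .y1, .taui, .xii, .p4, .xii, .y8, .y10, .p4, .xii, .y8, .taui, .xii, .p10]

/-- `u⁴` -/
def wu4 : List Ltr :=
  [.Z10, .Z6, .Z4, .Z3, .Z2, .X4, .X3, .X1, .X0, .y10, .y8, .y6, .y5, .y3, .y2, .p8, .hi, .p7, .hi, .p10, .hi, .p8,
   .hi, .p3, .hi, .p5, .hi, .p4, .xii, .y2, .hi, .xii, .p10, .xii, .tau, .xii, .y2, .p, .xii, .y2, .hi, .xii, .y5,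
   .tau, .X0, .p2, .xii, .p7, .xii, .y9, .hi, .y8, .p9, .taui, .xii, .p7, .xii, .y4, .y10, .p7, .xii, .taui, .xii,
   .p3, .xii, .y2]

/-- `h⁴` -/
def wh4 : List Ltr :=
  [.Z10, .Z9, .Z7, .Z6, .Z4, .Z2, .Z1, .X9, .X8, .X2, .X1, .X0, .y9, .y8, .y6, .y5, .y3, .y2, .y1, .hi, .p10, .hi,
   .p8, .hi, .p4, .hi, .p7, .hi, .p5, .hi, .p4, .hi, .xii, .hi, .xii, .p10, .xii, .y4, .tau, .xii, .p3, .hi, .xii,
   .y1, .y3, .taui, .p8, .xii, .p3, .xii, .y5, .p10, .taui, .xii, .p8, .xii, .y2, .y4, .p2, .xii, .y7, .taui, .xii,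
   .p7, .xii, .y4]

/-- `a`, an involution which commutes with `u` -/
def wa : List Ltr :=
  [.z, .Z9, .Z8, .Z7, .Z6, .Z4, .Z3, .Z2, .Z0, .X7, .X2, .X1, .X0, .y9, .y7, .y5, .y4, .y3, .y2, .y1, .p8, .hi, .p,
   .hi, .p, .hi, .p7, .hi, .p, .hi, .p4, .taui, .xii, .y6, .p, .xii, .p, .xii, .y4, .y5, .taui, .y1, .p7, .xii, .p3,
   .hi, .xii, .y4, .y8, .p, .taui, .xii, .y2, .p, .xii, .p8, .xii, .y1, .y9, .tau]

/-- `t = a h a h⁻¹` -/
def wt : List Ltr :=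
  [.Z10, .Z9, .Z7, .Z4, .Z1, .Z0, .X6, .X5, .X4, .X1, .X0, .y7, .y5, .y3, .y1, .p9, .hi, .p8, .hi, .p3, .hi, .p3, .hi,
   .p9, .hi, .p4, .hi, .xii, .p, .xii, .hi, .y7, .p10, .tau, .xii, .y6, .p, .xii, .p, .xii, .y5, .tau, .xii, .y6, .p9,
   .xii, .y2, .p3, .xii, .y4, .p10, .tau, .xii, .p7, .xii, .y4, .y10, .p7, .xii, .y8, .taui, .xii, .hi, .p4]

/-- conjugates `t w t h⁵ u w` to the fixed element of order 47 -/
def wc : List Ltr :=
  [.z, .Z10, .Z7, .Z6, .Z1, .Z0, .X8, .X6, .X4, .y9, .y6, .y3, .y2, .p4, .hi, .p4, .hi, .p10, .hi, .p, .hi, .p, .hi,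
   .p, .hi, .xii, .p3, .hi, .xii, .taui, .xii, .y6, .p, .xii, .p, .xii, .y3, .y10, .taui, .p4, .xii, .p4, .xii, .y1,
   .y3, .hi, .p8, .tau, .xii, .p5, .xii, .y3, .p5, .xii, .tau, .xii, .p, .hi]

theorem u_four : g wu ^ 4 = g wu4 := by
  rw [← g_pw]
  exact eq_of_eqF (by decide +kernel)

theorem u4_four : g wu4 ^ 4 * g wu = 1 := by
  rw [← g_pw, ← g_append, ← g_nil]
  exact eq_of_eqF (by decide +kernel)

theorem u_ne : g wu ≠ 1 := by
  rw [← g_nil]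
  exact ne_of_neF (by decide +kernel)

theorem h_four : g wh ^ 4 = g wh4 := by
  rw [← g_pw]
  exact eq_of_eqF (by decide +kernel)

theorem h4_four : g wh4 ^ 4 = 1 := pow_of_powF (by decide +kernel)

theorem h_u : g wh * g wu = g wu ^ 3 * g wh := by
  rw [← g_pw, ← g_append, ← g_append]
  exact eq_of_eqF (by decide +kernel)

theorem w_two : g ww ^ 2 = 1 := pow_of_powF (by decide +kernel)

theorem w_h : (g ww * g wh) ^ 2 = 1 := by
  rw [← g_append]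
  exact pow_of_powF (by decide +kernel)

theorem u_w : (g wu * g ww) ^ 3 = 1 := by
  rw [← g_append]
  exact pow_of_powF (by decide +kernel)

theorem a_u : g wa * g wu = g wu * g wa := by
  rw [← g_append, ← g_append]
  exact eq_of_eqF (by decide +kernel)

theorem a_a : g wa * g wa = 1 := by
  rw [← pow_two]
  exact pow_of_powF (by decide +kernel)

theorem t_h : g wa * g wh * g wa = g wt * g wh := by
  rw [← g_append, ← g_append, ← g_append]
  exact eq_of_eqF (by decide +kernel)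

theorem c47 : Five.is47 (Five.cat [wt, wu, wh, ww, wh4] [0, 3, 0, 4, 2, 1, 3]) wc false = true := by decide +kernel

theorem h_u' : g wh * g wu * (g wh)⁻¹ = g wu ^ 3 := by
  rw [h_u, mul_inv_cancel_right]

theorem u_pow : g wu ^ 17 = 1 := by
  rw [← u4_four, ← u_four, ← pow_mul, ← pow_succ]

theorem h_pow : g wh ^ 16 = 1 := by
  rw [← h4_four, ← h_four, ← pow_mul]

theorem o_u : orderOf (g wu) = 17 :=
  have : Fact (Nat.Prime 17) := ⟨by norm_num⟩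
  orderOf_eq_prime u_pow u_ne

theorem t_eq : g wa * (g wh * g wa * (g wh)⁻¹) = g wt := by
  rw [← mul_assoc, ← mul_assoc, t_h, mul_inv_cancel_right]

/-- the group -/
noncomputable def HH : Subgroup G := closure {g wu, g wh, g ww}

theorem u_mem : g wu ∈ HH := subset_closure (by simp)

theorem h_mem : g wh ∈ HH := subset_closure (by simp)

theorem w_mem : g ww ∈ HH := subset_closure (by simp)

theorem big (h47 : Gen47 G) : Big HH := h47.big u_mem (by rw [o_u]; norm_num)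

theorem hs_mem : ∀ s ∈ [wu, wh, ww, wh4], g s ∈ HH := by
  intro s hs
  simp only [List.mem_cons, List.not_mem_nil, or_false] at hs
  rcases hs with rfl | rfl | rfl | rfl
  · exact u_mem
  · exact h_mem
  · exact w_mem
  · exact h_four ▸ pow_mem h_mem 4

theorem tst_t (h47 : Gen47 G) : Tst HH (g wt) := Five.tst_of (big h47) hs_mem c47

/-- **The test at 17.** -/
theorem nt17 (L : Loc G) (h47 : Gen47 G) : NT HH 17 :=
  have : Finite G := Nat.finite_of_card_ne_zero (by rw [L.card]; decide)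
  Prim.nt17 o_u (L.c17 _ o_u) u_mem h_mem h_u a_u a_a (t_eq ▸ tst_t h47)

end Cfsg.Agent.BX.P17b
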